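import Mathlib
import Groth.Prelude.Def_FlatCA
import Groth.Prelude.Def_Hensel
import Groth.Prelude.Def_PBC
import Groth.Agent.Lib.Helper3.WAss5
import Groth.Agent.Lib.Helper8.HensWE1
import Groth.Agent.S0507
import Groth.Agent.S0509
import Groth.Agent.S0538
import Groth.Agent.S0539
import Groth.Agent.S9589

set_option linter.style.haveILetI false
set_option linter.unusedVariables false
set_option linter.unusedSectionVars false
set_option autoImplicit false
set_option backward.isDefEq.respectTransparency.types false
set_option synthInstance.maxHeartbeats 400000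
set_option maxHeartbeats 800000

universe u

/-! helper7: helper7: weakly associated primes and (strict) henselization via ind-etale systems -/

open IsLocalRing TensorProduct CategoryTheory

namespace Groth.Agent.Helper7.WAssHens

section up

variable {R R' : Type u} [CommRing R] [CommRing R'] [IsLocalRing R] [IsLocalRing R'] [Algebra R R']
  [Module.Flat R R'] (N : Type u) [AddCommGroup N] [Module R N]

/-- going up along a flat local map whose closed fibre is a point -/
theorem mem_weakAss_tensor_of_map_maximalIdeal
    (hmap : (maximalIdeal R).map (algebraMap R R') = maximalIdeal R')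
    (h : maximalIdeal R ∈ FlatCA.weakAss R N) :
    maximalIdeal R' ∈ FlatCA.weakAss R' (R' ⊗[R] N) := by
  obtain ⟨x, hx⟩ := h
  refine ⟨(1 : R') ⊗ₜ[R] x, ⟨inferInstance, ?_⟩, ?_⟩
  · refine (Groth.Agent.Helper3.WAss.ann_one_tmul_le N x).trans ?_
    rw [← hmap]
    exact Ideal.map_mono hx.1.2
  · intro q hq hqm
    haveI := hq.1
    have h1 : (Submodule.span R {x}).annihilator ≤ q.comap (algebraMap R R') := by
      intro a ha
      rw [Submodule.mem_annihilator_span_singleton] at ha
      rw [Ideal.mem_comap]
      apply hq.2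
      rw [Submodule.mem_annihilator_span_singleton, smul_tmul', smul_eq_mul, mul_one,
        Algebra.algebraMap_eq_smul_one, smul_tmul, ha, tmul_zero]
    have h2 : maximalIdeal R ≤ q.comap (algebraMap R R') :=
      hx.2 ⟨inferInstance, h1⟩ (le_maximalIdeal (Ideal.IsPrime.ne_top inferInstance))
    rw [← hmap]
    exact Ideal.map_le_iff_le_comap.mpr h2

end up

section stage

variable {R E R' : Type u} [CommRing R] [CommRing E] [CommRing R'] [Algebra R E] [Algebra R R']
  [Algebra E R'] [IsScalarTower R E R'] (N : Type u) [AddCommGroup N] [Module R N]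

/-- the base-change identification sends `1 ⊗ w` to the image of `w` -/
theorem cancelBaseChange_one_tmul (w : E ⊗[R] N) :
    AlgebraTensorModule.cancelBaseChange R E R' R' N ((1 : R') ⊗ₜ[E] w) =
      LinearMap.rTensor N (IsScalarTower.toAlgHom R E R').toLinearMap w := by
  induction w using TensorProduct.induction_on with
  | zero => simp
  | tmul t x =>
    rw [AlgebraTensorModule.cancelBaseChange_tmul, LinearMap.rTensor_tmul,
      Algebra.smul_def, mul_one]
    rfl
  | add a b ha hb => rw [tmul_add, map_add, map_add, ha, hb]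

/-- descending a weakly associated prime from a flat algebra over an étale stage -/
theorem comap_mem_weakAss_of_stage [Algebra.Etale R E] [Module.Flat E R'] (w : E ⊗[R] N)
    (q' : Ideal R') [q'.IsPrime]
    (hq' : q' ∈ (Submodule.span R' {AlgebraTensorModule.cancelBaseChange R E R' R' N
      ((1 : R') ⊗ₜ[E] w)}).annihilator.minimalPrimes) :
    q'.comap (algebraMap R R') ∈ FlatCA.weakAss R N := by
  set e := AlgebraTensorModule.cancelBaseChange R E R' R' N with he
  set u : Ideal E := q'.comap (algebraMap E R') with hu
  haveI : u.IsPrime := Ideal.comap_isPrime _ _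
  have hle1 : (Submodule.span R' {e ((1 : R') ⊗ₜ[E] w)}).annihilator ≤
      ((Submodule.span E {w}).annihilator).map (algebraMap E R') := by
    refine le_trans ?_ (Groth.Agent.Helper3.WAss.ann_one_tmul_le (A := E) (B := R') (E ⊗[R] N) w)
    intro b hb
    rw [Submodule.mem_annihilator_span_singleton] at hb ⊢
    rw [← map_smul] at hb
    exact (LinearEquiv.map_eq_zero_iff e).mp hb
  have hle2 : (Submodule.span E {w}).annihilator ≤ u := by
    intro t ht
    rw [Submodule.mem_annihilator_span_singleton] at ht
    rw [hu, Ideal.mem_comap]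
    apply hq'.1.2
    rw [Submodule.mem_annihilator_span_singleton, ← map_smul, smul_tmul', smul_eq_mul, mul_one,
      Algebra.algebraMap_eq_smul_one, smul_tmul, ht, tmul_zero, map_zero]
  have hmin : u ∈ (Submodule.span E {w}).annihilator.minimalPrimes := by
    refine ⟨⟨inferInstance, hle2⟩, ?_⟩
    intro u' hu' hle
    haveI := hu'.1
    haveI : q'.LiesOver u := ⟨rfl⟩
    obtain ⟨P, hPq, hPp, hPl⟩ := Ideal.exists_ideal_le_liesOver_of_le q' (p := u') (q := u) hle
    have hP : (Submodule.span R' {e ((1 : R') ⊗ₜ[E] w)}).annihilator ≤ P := by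
      refine hle1.trans ((Ideal.map_mono hu'.2).trans ?_)
      exact Ideal.map_le_iff_le_comap.mpr (le_of_eq hPl.over)
    have hqP : q' ≤ P := hq'.2 ⟨hPp, hP⟩ hPq
    intro a ha
    have : a ∈ P.comap (algebraMap E R') := hqP ha
    rw [hPl.over]
    exact this
  haveI : u.LiesOver (q'.comap (algebraMap R R')) := ⟨by
    show q'.comap (algebraMap R R') = (q'.comap (algebraMap E R')).comap (algebraMap R E)
    rw [Ideal.comap_comap, ← IsScalarTower.algebraMap_eq]⟩
  haveI : (q'.comap (algebraMap R R')).IsPrime := Ideal.comap_isPrime _ _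
  exact (Groth.Agent.Helper3.WAss.main_S1233 N (q'.comap (algebraMap R R')) u).mp ⟨w, hmin⟩

end stage

section ind

variable {R R' : Type u} [CommRing R] [CommRing R'] [Algebra R R'] (N : Type u) [AddCommGroup N]
  [Module R N]

/-- weakly associated primes of a base change along an ind-étale map contract to weakly
associated primes -/
theorem comap_mem_weakAss_of_isIndEtale (hind : EtPBC.IsIndEtale R R') (q' : Ideal R')
    [q'.IsPrime] (h : q' ∈ FlatCA.weakAss R' (R' ⊗[R] N)) :
    q'.comap (algebraMap R R') ∈ FlatCA.weakAss R N := by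
  haveI : Algebra.WeaklyEtale R R' :=
    Groth.Agent.Lib.Helper6.IndEt.weaklyEtale_of_isIndEtale R R' hind
  obtain ⟨J, _, _, E, _, _, hEt, φ, τ, hcompat, hsurj, hinj⟩ :=
    Groth.Agent.Lib.Helper6.IndEt.exists_system hind
  obtain ⟨z, hz⟩ := h
  have hlift : ∀ z : R' ⊗[R] N, ∃ (j : J) (w : E j ⊗[R] N),
      LinearMap.rTensor N (φ j).toLinearMap w = z := by
    intro z
    induction z using TensorProduct.induction_on with
    | zero =>
      obtain ⟨j₀⟩ := IsFiltered.nonempty (C := J)
      exact ⟨j₀, 0, map_zero _⟩
    | tmul s x =>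
      obtain ⟨j, t, ht⟩ := hsurj s
      refine ⟨j, t ⊗ₜ x, ?_⟩
      rw [LinearMap.rTensor_tmul]
      exact congrArg (· ⊗ₜ[R] x) ht
    | add a b ha hb =>
      obtain ⟨j1, w1, h1⟩ := ha
      obtain ⟨j2, w2, h2⟩ := hb
      refine ⟨IsFiltered.max j1 j2,
        LinearMap.rTensor N (τ _ _ (IsFiltered.leftToMax j1 j2)).toLinearMap w1 +
          LinearMap.rTensor N (τ _ _ (IsFiltered.rightToMax j1 j2)).toLinearMap w2, ?_⟩
      have e1 : (φ (IsFiltered.max j1 j2)).toLinearMap ∘ₗ
          (τ _ _ (IsFiltered.leftToMax j1 j2)).toLinearMap = (φ j1).toLinearMap :=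
        LinearMap.ext fun x => hcompat _ _ _ x
      have e2 : (φ (IsFiltered.max j1 j2)).toLinearMap ∘ₗ
          (τ _ _ (IsFiltered.rightToMax j1 j2)).toLinearMap = (φ j2).toLinearMap :=
        LinearMap.ext fun x => hcompat _ _ _ x
      rw [map_add, ← LinearMap.comp_apply, ← LinearMap.rTensor_comp, ← LinearMap.comp_apply,
        ← LinearMap.rTensor_comp, e1, e2, h1, h2]
  obtain ⟨j, w, hw⟩ := hlift z
  haveI := hEt j
  letI : Algebra (E j) R' := (φ j).toRingHom.toAlgebra
  haveI : IsScalarTower R (E j) R' :=
    IsScalarTower.of_algebraMap_eq fun r => ((φ j).commutes r).symm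
  haveI : Algebra.WeaklyEtale (E j) R' := Helper5.WEt.weaklyEtale_of_algHom R (E j) R'
  have hφ : IsScalarTower.toAlgHom R (E j) R' = φ j := AlgHom.ext fun x => rfl
  refine comap_mem_weakAss_of_stage N w q' ?_
  rw [cancelBaseChange_one_tmul, hφ, hw]
  exact hz

end ind

section main

/-- **Weakly associated primes and henselization.** -/
theorem S1234_main {A : Type u} [CommRing A] (M : Type u) [AddCommGroup M] [Module A M]
    (p : Ideal A) [p.IsPrime]
    (Ah Ash : Type u) [CommRing Ah] [IsLocalRing Ah] [CommRing Ash] [IsLocalRing Ash]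
    [Algebra (Localization.AtPrime p) Ah] [IsLocalHom (algebraMap (Localization.AtPrime p) Ah)]
    [Hensel.IsHenselization (Localization.AtPrime p) Ah]
    [Algebra (Localization.AtPrime p) Ash] [IsLocalHom (algebraMap (Localization.AtPrime p) Ash)]
    [Hensel.IsStrictHenselization (Localization.AtPrime p) Ash] :
    [p ∈ FlatCA.weakAss A M,
     maximalIdeal (Localization.AtPrime p) ∈
       FlatCA.weakAss (Localization.AtPrime p) (LocalizedModule p.primeCompl M),
     maximalIdeal Ah ∈ FlatCA.weakAss Ah
       (Ah ⊗[Localization.AtPrime p] LocalizedModule p.primeCompl M),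
     maximalIdeal Ash ∈ FlatCA.weakAss Ash
       (Ash ⊗[Localization.AtPrime p] LocalizedModule p.primeCompl M)].TFAE := by
  have h12 : p ∈ FlatCA.weakAss A M ↔ maximalIdeal (Localization.AtPrime p) ∈
       FlatCA.weakAss (Localization.AtPrime p) (LocalizedModule p.primeCompl M) := by
    have h := Groth.Agent.S9589.result p.primeCompl M p
      (Set.disjoint_left.mpr fun a ha hp => ha hp)
    rw [Localization.AtPrime.map_eq_maximalIdeal] at h
    exact h
  haveI : Module.FaithfullyFlat (Localization.AtPrime p) Ah := Groth.Agent.S0509.result _ _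
  haveI : Module.FaithfullyFlat (Localization.AtPrime p) Ash := Groth.Agent.S0539.result _ _
  have h23 : maximalIdeal (Localization.AtPrime p) ∈
       FlatCA.weakAss (Localization.AtPrime p) (LocalizedModule p.primeCompl M) ↔
      maximalIdeal Ah ∈ FlatCA.weakAss Ah
       (Ah ⊗[Localization.AtPrime p] LocalizedModule p.primeCompl M) := by
    constructor
    · exact mem_weakAss_tensor_of_map_maximalIdeal _ (Groth.Agent.S0507.result _ _)
    · intro h
      have h' := comap_mem_weakAss_of_isIndEtale (LocalizedModule p.primeCompl M)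
        (Groth.Agent.S12236.result (Localization.AtPrime p) Ah) (maximalIdeal Ah) h
      rw [IsLocalRing.maximalIdeal_comap] at h'
      exact h'
  have h24 : maximalIdeal (Localization.AtPrime p) ∈
       FlatCA.weakAss (Localization.AtPrime p) (LocalizedModule p.primeCompl M) ↔
      maximalIdeal Ash ∈ FlatCA.weakAss Ash
       (Ash ⊗[Localization.AtPrime p] LocalizedModule p.primeCompl M) := by
    constructor
    · exact mem_weakAss_tensor_of_map_maximalIdeal _ (Groth.Agent.S0538.result _ _)
    · intro h
      have h' := comap_mem_weakAss_of_isIndEtale (LocalizedModule p.primeCompl M)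
        (Groth.Agent.S12237.result (Localization.AtPrime p) Ash) (maximalIdeal Ash) h
      rw [IsLocalRing.maximalIdeal_comap] at h'
      exact h'
  tfae_have 1 ↔ 2 := h12
  tfae_have 2 ↔ 3 := h23
  tfae_have 2 ↔ 4 := h24
  tfae_finish

end main

end Groth.Agent.Helper7.WAssHens
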